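import Mathlib.RingTheory.LocalRing.Module
import Mathlib.RingTheory.LocalRing.ResidueField.Ideal
import Mathlib.RingTheory.Localization.BaseChange
import Mathlib.RingTheory.Flat.Localization
import Mathlib.LinearAlgebra.TensorProduct.RightExactness
import Mathlib.RingTheory.Noetherian.Basic

/-!
# Exactness over the residue field of a prime and freeness at the prime
-/

set_option backward.isDefEq.respectTransparency false
set_option backward.isDefEq.respectTransparency.types false

universe u v

open TensorProduct

namespace ResFieldExactLib

variable {A : Type u} [CommRing A] (p : Ideal A) [p.IsPrime]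
variable {X Y Z : Type v} [AddCommGroup X] [Module A X] [AddCommGroup Y] [Module A Y]
  [AddCommGroup Z] [Module A Z]

/-- The local ring at `p`. -/
local notation "L" => Localization.AtPrime p

lemma lTensor_residue_iff (f : X →ₗ[A] Y) :
    Function.Injective ((f.baseChange L).lTensor (IsLocalRing.ResidueField L)) ↔
      Function.Injective (f.lTensor p.ResidueField) := by
  let eX := AlgebraTensorModule.cancelBaseChange A L L (IsLocalRing.ResidueField L) X
  let eY := AlgebraTensorModule.cancelBaseChange A L L (IsLocalRing.ResidueField L) Y
  have h : ∀ w, f.lTensor p.ResidueField (eX w) =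
      eY ((f.baseChange L).lTensor (IsLocalRing.ResidueField L) w) := by
    intro w
    induction w using TensorProduct.induction_on with
    | zero => simp
    | tmul q w =>
      induction w using TensorProduct.induction_on with
      | zero => simp
      | tmul a x => simp [eX, eY]
      | add a b ha hb =>
        simp only [TensorProduct.tmul_add, map_add]
        rw [ha, hb]
    | add a b ha hb =>
      simp only [map_add]
      rw [ha, hb]
  constructor
  · intro hi z w hzw
    obtain ⟨z, rfl⟩ := eX.surjective z
    obtain ⟨w, rfl⟩ := eX.surjective w
    rw [h, h] at hzw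
    exact congrArg eX (hi (eY.injective hzw))
  · intro hi z w hzw
    exact eX.injective (hi (by rw [h, h, hzw]))

lemma free_localized_iff (X : Type v) [AddCommGroup X] [Module A X] :
    Module.Free L (LocalizedModule p.primeCompl X) ↔ Module.Free L (L ⊗[A] X) := by
  let e : L ⊗[A] X ≃ₗ[L] LocalizedModule p.primeCompl X :=
    (IsLocalizedModule.isBaseChange p.primeCompl L (LocalizedModule.mkLinearMap p.primeCompl X)).equiv
  exact ⟨fun h => Module.Free.of_equiv e.symm, fun h => Module.Free.of_equiv e⟩

variable [IsNoetherianRing A]

/-- If `κ ⊗ f` is injective, the cokernel is free at `p`. -/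
theorem free_of_injective (f : X →ₗ[A] Y) (g : Y →ₗ[A] Z) (hfg : Function.Exact f g)
    (hg : Function.Surjective g) [Module.Finite A X] [Module.Finite A Y] [Module.Free A Y]
    (h : Function.Injective (f.lTensor p.ResidueField)) : Module.Free L (L ⊗[A] Z) :=
  Module.free_of_lTensor_residueField_injective (f.baseChange L) (g.baseChange L)
    (LinearMap.lTensor_surjective _ hg) (Module.Flat.lTensor_exact L hfg)
    ((lTensor_residue_iff p f).2 h)

/-- If the cokernel is free at `p`, the sequence splits at `p`. -/
theorem split_of_free (f : X →ₗ[A] Y) (g : Y →ₗ[A] Z) (hfg : Function.Exact f g)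
    (hf : Function.Injective f) (hg : Function.Surjective g) [Module.Projective L (L ⊗[A] Z)] :
    Function.Injective (f.lTensor p.ResidueField) ∧
      (Module.Projective L (L ⊗[A] Y) → Module.Projective L (L ⊗[A] X)) := by
  have hi : Function.Injective (f.baseChange L) :=
    Module.Flat.lTensor_preserves_injective_linearMap _ hf
  have hs : Function.Surjective (g.baseChange L) := LinearMap.lTensor_surjective _ hg
  have he : Function.Exact (f.baseChange L) (g.baseChange L) := Module.Flat.lTensor_exact L hfg
  obtain ⟨r, hr⟩ := ((he.split_tfae hi hs).out 0 1).1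
    (Module.projective_lifting_property _ _ hs)
  refine ⟨(lTensor_residue_iff p f).1 ?_, fun _ => Module.Projective.of_split _ _ hr⟩
  refine Function.HasLeftInverse.injective
    ⟨r.lTensor (IsLocalRing.ResidueField L), fun z => ?_⟩
  rw [← LinearMap.comp_apply, ← LinearMap.lTensor_comp, hr, LinearMap.lTensor_id, LinearMap.id_apply]

section Main

variable {M F : Type v} [AddCommGroup M] [Module A M] [Module.Finite A M] [AddCommGroup F]
  [Module A F] [Module.Finite A F] [Module.Free A F] (δ : M →ₗ[A] F)

lemma exact_iff_injective :
    Function.Exact (LinearMap.lTensor p.ResidueField (LinearMap.ker δ).subtype)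
        (LinearMap.lTensor p.ResidueField δ) ↔
      Function.Injective ((LinearMap.range δ).subtype.lTensor p.ResidueField) := by
  let π := δ.rangeRestrict
  have hδ : δ = (LinearMap.range δ).subtype ∘ₗ π := rfl
  have hs : Function.Surjective (π.lTensor p.ResidueField) :=
    LinearMap.lTensor_surjective _ δ.surjective_rangeRestrict
  have he : Function.Exact ((LinearMap.ker δ).subtype.lTensor p.ResidueField)
      (π.lTensor p.ResidueField) :=
    lTensor_exact _ (by
      rw [LinearMap.exact_iff, LinearMap.ker_rangeRestrict, Submodule.range_subtype])
      δ.surjective_rangeRestrict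
  have hc : ∀ z, δ.lTensor p.ResidueField z =
      (LinearMap.range δ).subtype.lTensor p.ResidueField (π.lTensor p.ResidueField z) := fun z => by
    conv_lhs => rw [hδ, LinearMap.lTensor_comp]
    rfl
  constructor
  · intro h
    refine (injective_iff_map_eq_zero _).2 fun y hy => ?_
    obtain ⟨x, rfl⟩ := hs y
    rw [← hc] at hy
    obtain ⟨z, rfl⟩ := (h x).1 hy
    exact he.apply_apply_eq_zero z
  · intro h x
    rw [← he x, hc]
    exact ⟨fun hx => h (hx.trans (map_zero _).symm), fun hx => by rw [hx, map_zero]⟩

lemma cokernel_free_iff :
    Function.Injective ((LinearMap.range δ).subtype.lTensor p.ResidueField) ↔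
      Module.Free L (L ⊗[A] (F ⧸ LinearMap.range δ)) := by
  constructor
  · exact free_of_injective p _ (LinearMap.range δ).mkQ (LinearMap.exact_subtype_mkQ _)
      (Submodule.mkQ_surjective _)
  · intro h
    exact (split_of_free p _ (LinearMap.range δ).mkQ (LinearMap.exact_subtype_mkQ _)
      Subtype.val_injective (Submodule.mkQ_surjective _)).1

lemma range_projective (h : Module.Free L (L ⊗[A] (F ⧸ LinearMap.range δ))) :
    Module.Projective L (L ⊗[A] LinearMap.range δ) :=
  (split_of_free p _ (LinearMap.range δ).mkQ (LinearMap.exact_subtype_mkQ _)
      Subtype.val_injective (Submodule.mkQ_surjective _)).2 inferInstance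

lemma ker_injective (h : Module.Free L (L ⊗[A] (F ⧸ LinearMap.range δ))) :
    Function.Injective ((LinearMap.ker δ).subtype.lTensor p.ResidueField) := by
  haveI := range_projective p δ h
  exact (split_of_free p _ δ.rangeRestrict (by
      rw [LinearMap.exact_iff, LinearMap.ker_rangeRestrict, Submodule.range_subtype])
      Subtype.val_injective δ.surjective_rangeRestrict).1

end Main

end ResFieldExactLib
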